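import Groth.Agent.Frob15.SmoothRelFrob

/-! The relative Frobenius of a smooth algebra is flat; any universes. -/

set_option autoImplicit false
set_option linter.unusedSimpArgs false
set_option linter.style.haveILetI false

universe u v

open TensorProduct

namespace Groth.Agent.Frob15b

open FrobAlg Groth.Agent.Frob15

set_option maxHeartbeats 1000000 in
/-- The relative Frobenius of a smooth algebra is flat. -/
theorem flat_relFrob (p : ℕ) [Fact p.Prime] (A : Type u) [CommRing A] [CharP A p]
    (B : Type u) [CommRing B] [Algebra A B] [CharP B p] [Algebra.Smooth A B] : (FrobAlg.relFrob p A B).Flat := by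
  letI algC := (FrobAlg.relFrob p A B).toAlgebra
  let T := Twist p A
  let C := BaseChange p A B
  -- finite presentation
  haveI : Algebra.FinitePresentation C B := by
    have h1 : ((relFrob p A B).comp (algebraMap T C)).FinitePresentation := by
      rw [show (relFrob p A B).comp (algebraMap T C) = (algebraMap A B).comp ((toTwist p A).symm : T →+* A) from
        RingHom.ext fun t => by
          show relFrob p A B ((1 : B) ⊗ₜ[A] t) = _
          rw [relFrob_tmul, one_pow, one_mul]
          rfl]
      exact RingHom.FinitePresentation.comp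
        (RingHom.finitePresentation_algebraMap.2 (inferInstance : Algebra.FinitePresentation A B))
        (RingHom.FinitePresentation.of_bijective (toTwist p A).symm.bijective)
    have h2 : (algebraMap T C).FiniteType := RingHom.finiteType_algebraMap.2
      (Algebra.FiniteType.equiv (inferInstanceAs (Algebra.FiniteType T (T ⊗[A] B))) (Algebra.TensorProduct.commRight A T B))
    exact RingHom.FinitePresentation.of_comp_finiteType _ h1 h2
  haveI : Algebra.IsIntegral C B := ⟨relFrob_isIntegral p A B⟩
  haveI hfin : Module.Finite C B := Algebra.IsIntegral.finite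
  haveI : Module.FinitePresentation C B := Module.FinitePresentation.of_finite_of_finitePresentation C B
  -- the surjection on spectra
  have hker : ∀ x : C, relFrob p A B x = 0 → x ^ p = 0 := fun x hx => by
    rw [pow_p_eq, hx, TensorProduct.zero_tmul]
  have hsurj : ∀ q : PrimeSpectrum C, ∃ Q : PrimeSpectrum B, q = Q.comap (algebraMap C B) := fun q => by
    obtain ⟨Q, -, hQ, hQq⟩ := Ideal.exists_ideal_over_prime_of_isIntegral q.asIdeal (⊥ : Ideal B) (by
      rw [← RingHom.ker_eq_comap_bot]
      intro x hx
      exact q.2.mem_of_pow_mem p ((hker x hx).symm ▸ zero_mem _))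
    exact ⟨⟨Q, hQ⟩, PrimeSpectrum.ext hQq.symm⟩
  have key : ∀ q : PrimeSpectrum C, ∃ (h : C) (N : Type u) (_ : AddCommGroup N) (_ : Module C N)
      (f : B →ₗ[C] N) (_ : IsLocalizedModule.Away h f), h ∉ q.asIdeal ∧ Module.Flat C N := by
    intro q
    obtain ⟨Q, hQ⟩ := hsurj q
    obtain ⟨g, hg, hstd⟩ := Algebra.IsSmoothAt.exists_notMem_isStandardSmooth A Q.asIdeal
    let Bg := Localization.Away g
    haveI hnt : Nontrivial Bg := by
      rw [← not_subsingleton_iff_nontrivial, IsLocalization.subsingleton_iff (M := Submonoid.powers g) (S := Bg)]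
      rintro ⟨n, hn⟩
      exact hg (Q.2.mem_of_pow_mem n (by rw [show g ^ n = 0 from hn]; exact zero_mem _))
    haveI : CharP Bg p := ringChar.of_eq (CharP.ringChar_of_prime_eq_zero Fact.out (natCast_eq_zero p A))
    obtain ⟨ι, σ, _, _, ⟨P⟩⟩ := hstd
    haveI : Algebra.IsStandardSmoothOfRelativeDimension P.dimension A Bg := ⟨ι, σ, ‹_›, ‹_›, P, rfl⟩
    obtain ⟨φ, hφ⟩ := Algebra.IsStandardSmoothOfRelativeDimension.exists_etale_mvPolynomial (R := A) (S := Bg) (n := P.dimension)
    obtain ⟨hfree, hrk⟩ := free_of_etale_mvPolynomial p A Bg P.dimension φ hφ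
    let C' := BaseChange p A Bg
    let ι : C →+* C' := (Algebra.TensorProduct.map (IsScalarTower.toAlgHom A B Bg) (AlgHom.id A T)).toRingHom
    have hcomm : ∀ c, algebraMap B Bg (relFrob p A B c) = relFrob p A Bg (ι c) := fun c => by
      show _ = relFrob p A Bg (Algebra.TensorProduct.map (IsScalarTower.toAlgHom A B Bg) (AlgHom.id A T) c)
      induction c using TensorProduct.induction_on with
      | zero => simp only [map_zero]
      | add x y hx hy => simp only [map_add, hx, hy]
      | tmul b t =>
        rw [Algebra.TensorProduct.map_tmul, relFrob_tmul, relFrob_tmul, map_mul, map_pow, AlgHom.id_apply,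
          IsScalarTower.toAlgHom_apply, ← IsScalarTower.algebraMap_apply]
    let h : C := g ⊗ₜ[A] (1 : T)
    have hι : @IsLocalization.Away C _ h C' _ ι.toAlgebra := isLocalization_away_baseChange A B Bg T g
    have hhg : algebraMap C B h = g ^ p := by
      show relFrob p A B (g ⊗ₜ[A] (1 : T)) = g ^ p
      rw [relFrob_tmul, show ((toTwist p A).symm 1 : A) = 1 from rfl, map_one, mul_one]
    have hhq : h ∉ q.asIdeal := by
      rw [hQ]
      show algebraMap C B h ∉ Q.asIdeal
      rw [hhg]
      exact fun hm => hg (Q.2.mem_of_pow_mem p hm)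
    obtain ⟨N, i1, i2, f, hf, hflat, -⟩ := chart_step (relFrob p A Bg) ι h g p (Fact.out : p.Prime).ne_zero hι hhg hcomm
      (p ^ P.dimension) ⟨hfree, hrk⟩ q hhq
    exact ⟨h, N, i1, i2, f, hf, hhq, hflat⟩
  choose hel N iN mN fN hfN hmem hflat using key
  haveI : Module.Flat C B := by
    haveI : ∀ i : Set.range hel, IsLocalizedModule.Away i.1 (fN i.2.choose) := fun i => by
      have := hfN i.2.choose
      rwa [show hel i.2.choose = i.1 from i.2.choose_spec] at this
    refine Module.flat_of_isLocalized_span (R := C) C B (Set.range hel) ?_ (fun i => N i.2.choose)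
      (fun i => fN i.2.choose) (fun i => hflat i.2.choose)
    · by_contra hne
      obtain ⟨m, hm, hle⟩ := Ideal.exists_le_maximal _ hne
      exact hmem ⟨m, hm.isPrime⟩ (hle (Ideal.subset_span ⟨_, rfl⟩))
  exact ‹Module.Flat C B›

set_option maxHeartbeats 400000 in
/-- The relative Frobenius of a smooth algebra is flat, for algebras in two universes. -/
theorem flat_relFrob' (p : ℕ) [Fact p.Prime] (A : Type u) [CommRing A] [CharP A p]
    (B : Type v) [CommRing B] [Algebra A B] [CharP B p] [Algebra.Smooth A B] :
    (FrobAlg.relFrob p A B).Flat := by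
  let A' := ULift.{v} A
  let B' := ULift.{u} B
  let eA : A' ≃+* A := ULift.ringEquiv
  let eB : B' ≃+* B := ULift.ringEquiv
  letI : Algebra A' B' := ULift.algebra' (R := A) (A := B')
  haveI : IsScalarTower A A' B' := IsScalarTower.of_algebraMap_eq fun _ => rfl
  haveI : Algebra.Smooth A B' := Algebra.Smooth.of_equiv (ULift.algEquiv (R := A) (A := B)).symm
  let e : A ≃ₐ[A] A' := (ULift.algEquiv (R := A) (A := A)).symm
  haveI : Algebra.FormallyEtale A A' := Algebra.FormallyEtale.of_equiv e
  haveI : Algebra.FiniteType A A' := Algebra.FiniteType.equiv inferInstance e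
  haveI : Algebra.FormallySmooth A' B' := Algebra.FormallySmooth.of_restrictScalars A A' B'
  haveI : Algebra.FinitePresentation A' B' := Algebra.FinitePresentation.of_restrict_scalars_finitePresentation A A' B'
  haveI : Algebra.Smooth A' B' := ⟨inferInstance, inferInstance⟩
  have hflat := flat_relFrob p A' B'
  -- the twists correspond
  let ι₁ : B →+* BaseChange p A' B' :=
    (algebraMap B' (BaseChange p A' B')).comp eB.symm.toRingHom
  let ι₂ : Twist p A →+* BaseChange p A' B' :=
    (Algebra.TensorProduct.includeRight : Twist p A' →ₐ[A'] BaseChange p A' B').toRingHom.comp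
      (((toTwist p A').toRingHom.comp eA.symm.toRingHom).comp (toTwist p A).symm.toRingHom)
  let j₁ : B →ₐ[A] BaseChange p A' B' := { ι₁ with commutes' := fun a => rfl }
  let j₂ : Twist p A →ₐ[A] BaseChange p A' B' :=
    { ι₂ with
      commutes' := fun a => by
        show ι₂ (algebraMap A (Twist p A) a) = algebraMap A' (BaseChange p A' B') (eA.symm a)
        rw [← (Algebra.TensorProduct.includeRight : Twist p A' →ₐ[A'] BaseChange p A' B').commutes]
        show (Algebra.TensorProduct.includeRight : Twist p A' →ₐ[A'] BaseChange p A' B')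
            (toTwist p A' (eA.symm ((toTwist p A).symm (toTwist p A (frobenius A p a))))) =
          (Algebra.TensorProduct.includeRight : Twist p A' →ₐ[A'] BaseChange p A' B')
            (toTwist p A' (frobenius A' p (eA.symm a)))
        rw [RingEquiv.symm_apply_apply, frobenius_def, frobenius_def, map_pow] }
  let Φ : BaseChange p A B →ₐ[A] BaseChange p A' B' := Algebra.TensorProduct.lift j₁ j₂ (fun _ _ => Commute.all _ _)
  let κ₁ : B' →+* BaseChange p A B := (algebraMap B (BaseChange p A B)).comp eB.toRingHom
  let κ₂ : Twist p A' →+* BaseChange p A B :=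
    (Algebra.TensorProduct.includeRight : Twist p A →ₐ[A] BaseChange p A B).toRingHom.comp
      (((toTwist p A).toRingHom.comp eA.toRingHom).comp (toTwist p A').symm.toRingHom)
  letI : Algebra A' (BaseChange p A B) := ULift.algebra' (R := A) (A := BaseChange p A B)
  let k₁ : B' →ₐ[A'] BaseChange p A B := { κ₁ with commutes' := fun a => rfl }
  let k₂ : Twist p A' →ₐ[A'] BaseChange p A B :=
    { κ₂ with
      commutes' := fun a => by
        show κ₂ (algebraMap A' (Twist p A') a) = algebraMap A (BaseChange p A B) (eA a)
        rw [← (Algebra.TensorProduct.includeRight : Twist p A →ₐ[A] BaseChange p A B).commutes]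
        show (Algebra.TensorProduct.includeRight : Twist p A →ₐ[A] BaseChange p A B)
            (toTwist p A (eA ((toTwist p A').symm (toTwist p A' (frobenius A' p a))))) =
          (Algebra.TensorProduct.includeRight : Twist p A →ₐ[A] BaseChange p A B) (toTwist p A (frobenius A p (eA a)))
        rw [RingEquiv.symm_apply_apply, frobenius_def, frobenius_def, map_pow] }
  let Ψ : BaseChange p A' B' →ₐ[A'] BaseChange p A B := Algebra.TensorProduct.lift k₁ k₂ (fun _ _ => Commute.all _ _)
  have hΦ : Function.Bijective Φ.toRingHom := by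
    refine Function.bijective_iff_has_inverse.2 ⟨Ψ, fun x => ?_, fun x => ?_⟩
    · show Ψ (Φ x) = x
      induction x using TensorProduct.induction_on with
      | zero => simp
      | add a b ha hb => rw [map_add, map_add, ha, hb]
      | tmul b t =>
        simp [Φ, Ψ, j₁, j₂, k₁, k₂, ι₁, ι₂, κ₁, κ₂, eA, eB, toTwist]
        rfl
    · show Φ (Ψ x) = x
      induction x using TensorProduct.induction_on with
      | zero => simp
      | add a b ha hb => rw [map_add, map_add, ha, hb]
      | tmul b t =>
        simp [Φ, Ψ, j₁, j₂, k₁, k₂, ι₁, ι₂, κ₁, κ₂, eA, eB, toTwist]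
        rfl
  have heq : relFrob p A B = eB.toRingHom.comp ((relFrob p A' B').comp Φ.toRingHom) := by
    refine RingHom.ext fun x => ?_
    induction x using TensorProduct.induction_on with
    | zero => simp
    | add a b ha hb => rw [map_add, map_add, ha, hb]
    | tmul b t =>
      simp [Φ, j₁, j₂, ι₁, ι₂, relFrob_tmul, eA, eB, toTwist]
      rfl
  rw [heq]
  exact ((RingHom.Flat.of_bijective hΦ).comp hflat).comp (RingHom.Flat.of_bijective eB.bijective)

end Groth.Agent.Frob15b
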